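import Groth.Agent.Lib.Helper6.Morse.Quad

set_option linter.unusedSectionVars false
set_option linter.unusedVariables false
set_option linter.unusedSimpArgs false
set_option autoImplicit false
set_option maxHeartbeats 400000

noncomputable section

namespace Groth.Agent.Lib.Helper6.Morse

open MvPowerSeries

variable {n : ℕ} {k : Type*} [CommRing k]

theorem single_add_single_eq_iff (i j a b : Fin n) :
    (Finsupp.single i 1 + Finsupp.single j 1 : Fin n →₀ ℕ) = Finsupp.single a 1 + Finsupp.single b 1
      ↔ (a = i ∧ b = j) ∨ (a = j ∧ b = i) := by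
  constructor
  · intro h
    have ha := DFunLike.congr_fun h a
    simp only [Finsupp.add_apply, Finsupp.single_apply] at ha
    by_cases hai : a = i
    · subst hai
      left
      refine ⟨rfl, ?_⟩
      have h2 : (Finsupp.single j 1 : Fin n →₀ ℕ) = Finsupp.single b 1 := add_left_cancel h
      exact ((Finsupp.single_left_inj (one_ne_zero)).mp h2).symm
    · by_cases haj : a = j
      · subst haj
        right
        refine ⟨rfl, ?_⟩
        rw [add_comm] at h
        have h2 : (Finsupp.single i 1 : Fin n →₀ ℕ) = Finsupp.single b 1 := add_left_cancel h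
        exact ((Finsupp.single_left_inj (one_ne_zero)).mp h2).symm
      · exfalso
        rw [if_neg (Ne.symm hai), if_neg (Ne.symm haj)] at ha
        split_ifs at ha <;> omega
  · rintro (⟨rfl, rfl⟩ | ⟨rfl, rfl⟩)
    · rfl
    · rw [add_comm]

theorem exists_of_degree_eq_two (m : Fin n →₀ ℕ) (hm : m.degree = 2) :
    ∃ i j : Fin n, i ≤ j ∧ m = Finsupp.single i 1 + Finsupp.single j 1 := by
  have hm0 : m ≠ 0 := by
    intro h; rw [h] at hm; simp at hm
  obtain ⟨i, hi⟩ := Finsupp.support_nonempty_iff.mpr hm0
  have hi' : m i ≠ 0 := Finsupp.mem_support_iff.mp hi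
  have hle : Finsupp.single i 1 ≤ m := by
    intro l
    by_cases hl : l = i
    · subst hl; simp; omega
    · simp [Finsupp.single_apply, Ne.symm hl]
  set m' := m - Finsupp.single i 1 with hm'
  have hmm' : m = m' + Finsupp.single i 1 := (tsub_add_cancel_of_le hle).symm
  have hdeg' : m'.degree = 1 := by
    have := congrArg Finsupp.degree hmm'
    rw [map_add, Finsupp.degree_single, hm] at this
    omega
  have hm'0 : m' ≠ 0 := by
    intro h; rw [h] at hdeg'; simp at hdeg'
  obtain ⟨j, hj⟩ := Finsupp.support_nonempty_iff.mpr hm'0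
  have hj' : m' j ≠ 0 := Finsupp.mem_support_iff.mp hj
  have hle' : Finsupp.single j 1 ≤ m' := by
    intro l
    by_cases hl : l = j
    · subst hl; simp; omega
    · simp [Finsupp.single_apply, Ne.symm hl]
  set m'' := m' - Finsupp.single j 1 with hm''
  have hmm'' : m' = m'' + Finsupp.single j 1 := (tsub_add_cancel_of_le hle').symm
  have hdeg'' : m''.degree = 0 := by
    have := congrArg Finsupp.degree hmm''
    rw [map_add, Finsupp.degree_single, hdeg'] at this
    omega
  have hm''0 : m'' = 0 := (Finsupp.degree_eq_zero_iff m'').mp hdeg''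
  have hfinal : m = Finsupp.single j 1 + Finsupp.single i 1 := by
    rw [hmm', hmm'', hm''0, zero_add]
  rcases le_total i j with h | h
  · exact ⟨i, j, h, by rw [hfinal, add_comm]⟩
  · exact ⟨j, i, h, hfinal⟩

theorem C_mul_X_mul_X (r : k) (a b : Fin n) :
    (C r * X a * X b : MvPowerSeries (Fin n) k)
      = monomial (Finsupp.single a 1 + Finsupp.single b 1) r := by
  rw [X_def, X_def, mul_assoc, monomial_mul_monomial, one_mul, ← monomial_zero_eq_C_apply,
    monomial_mul_monomial, zero_add, mul_one]

theorem coeff_Qf_X (c : Fin n → Fin n → k) (i j : Fin n) :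
    coeff (Finsupp.single i 1 + Finsupp.single j 1) (Qf c (fun l => X l)) =
      if i = j then c i i else c i j + c j i := by
  classical
  unfold Qf
  rw [map_sum]
  simp only [map_sum, C_mul_X_mul_X, coeff_monomial, single_add_single_eq_iff]
  rw [← Finset.sum_product']
  have hfilter : ∀ p : Fin n × Fin n,
      ((p.1 = i ∧ p.2 = j) ∨ (p.1 = j ∧ p.2 = i)) ↔ p ∈ ({(i, j), (j, i)} : Finset (Fin n × Fin n)) := by
    intro p
    simp only [Finset.mem_insert, Finset.mem_singleton, Prod.ext_iff]
  simp only [hfilter]
  rw [Finset.sum_ite_mem, Finset.univ_product_univ, Finset.univ_inter]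
  by_cases hij : i = j
  · subst hij
    simp
  · rw [if_neg hij, Finset.sum_pair]
    intro h
    exact hij (Prod.ext_iff.mp h).1

end Groth.Agent.Lib.Helper6.Morse
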