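import Groth.Agent.Lib.Helper6.Morse.Ord

set_option linter.unusedSectionVars false
set_option linter.unusedVariables false
set_option linter.unusedSimpArgs false
set_option autoImplicit false
set_option maxHeartbeats 400000

noncomputable section

namespace Groth.Agent.Lib.Helper6.Morse

open MvPowerSeries

variable {n : ℕ} {R : Type*} [CommRing R]

/-- the part of `g` whose monomials have smallest variable `X j`, divided by `X j` -/
def part (j : Fin n) (g : MvPowerSeries (Fin n) R) : MvPowerSeries (Fin n) R :=
  fun m' => if (∀ l : Fin n, l < j → m' l = 0) then coeff (m' + Finsupp.single j 1) g else 0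

theorem coeff_part (j : Fin n) (g : MvPowerSeries (Fin n) R) (m' : Fin n →₀ ℕ) :
    coeff m' (part j g) =
      if (∀ l : Fin n, l < j → m' l = 0) then coeff (m' + Finsupp.single j 1) g else 0 := rfl

theorem ordGE_part {r : ℕ} (j : Fin n) (g : MvPowerSeries (Fin n) R) (hg : OrdGE (r + 1) g) :
    OrdGE r (part j g) := by
  intro m' hm'
  rw [coeff_part]
  split_ifs
  · apply hg
    rw [map_add, Finsupp.degree_single]
    omega
  · rfl

theorem coeff_X_mul_part (j : Fin n) (g : MvPowerSeries (Fin n) R) (m : Fin n →₀ ℕ) :
    coeff m (X j * part j g) =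
      if (1 ≤ m j ∧ ∀ l : Fin n, l < j → m l = 0) then coeff m g else 0 := by
  classical
  rw [X_def, coeff_monomial_mul]
  by_cases hmj : 1 ≤ m j
  · have hle : Finsupp.single j 1 ≤ m := by
      intro l
      by_cases hl : l = j
      · subst hl; simpa using hmj
      · simp [Finsupp.single_apply, Ne.symm hl]
    rw [if_pos hle, one_mul, coeff_part]
    have hadd : m - Finsupp.single j 1 + Finsupp.single j 1 = m := tsub_add_cancel_of_le hle
    have hiff : (∀ l : Fin n, l < j → (m - Finsupp.single j 1 : Fin n →₀ ℕ) l = 0) ↔
        (∀ l : Fin n, l < j → m l = 0) := by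
      constructor
      · intro h l hl
        have := h l hl
        rw [Finsupp.tsub_apply, Finsupp.single_apply, if_neg (ne_of_gt hl)] at this
        simpa using this
      · intro h l hl
        rw [Finsupp.tsub_apply, h l hl]
        simp
    by_cases hP : ∀ l : Fin n, l < j → m l = 0
    · rw [if_pos (hiff.mpr hP), if_pos ⟨hmj, hP⟩, hadd]
    · rw [if_neg (fun h => hP (hiff.mp h)), if_neg (fun h => hP h.2)]
  · have hle : ¬ Finsupp.single j 1 ≤ m := by
      intro h
      have := h j
      simp at this
      exact hmj this
    rw [if_neg hle, if_neg (fun h => hmj h.1)]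

/-- **Division by the variables**: a power series of order `≥ r + 1` is `∑ X j * g_j` with
`g_j` of order `≥ r`. -/
theorem sum_X_mul_part {r : ℕ} (g : MvPowerSeries (Fin n) R) (hg : OrdGE (r + 1) g) :
    g = ∑ j, X j * part j g := by
  classical
  ext m
  rw [map_sum]
  simp only [coeff_X_mul_part]
  by_cases hm : m = 0
  · subst hm
    rw [hg 0 (by simp)]
    symm
    apply Finset.sum_eq_zero
    intro j _
    rw [if_neg]
    rintro ⟨h, -⟩
    simp at h
  · have hne : m.support.Nonempty := Finsupp.support_nonempty_iff.mpr hm
    set j₀ := m.support.min' hne with hj₀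
    have hj₀mem : j₀ ∈ m.support := Finset.min'_mem _ hne
    have hj₀pos : 1 ≤ m j₀ := Nat.one_le_iff_ne_zero.mpr (Finsupp.mem_support_iff.mp hj₀mem)
    have hj₀min : ∀ l : Fin n, l < j₀ → m l = 0 := by
      intro l hl
      by_contra hml
      have : l ∈ m.support := Finsupp.mem_support_iff.mpr hml
      have := Finset.min'_le _ l this
      exact absurd hl (not_lt.mpr this)
    rw [Finset.sum_eq_single j₀]
    · rw [if_pos ⟨hj₀pos, hj₀min⟩]
    · intro j _ hjne
      rw [if_neg]
      rintro ⟨hj1, hj2⟩
      have hjmem : j ∈ m.support := Finsupp.mem_support_iff.mpr (by omega)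
      have h1 : j₀ ≤ j := Finset.min'_le _ j hjmem
      have h2 : ¬ j₀ < j := by
        intro hlt
        have := hj2 j₀ hlt
        omega
      exact hjne (le_antisymm (not_lt.mp h2) h1)
    · intro h; exact absurd (Finset.mem_univ _) h

end Groth.Agent.Lib.Helper6.Morse
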