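import Groth.Agent.Lib.Helper6.Morse.Coef

set_option linter.unusedSectionVars false
set_option linter.unusedVariables false
set_option linter.unusedSimpArgs false
set_option autoImplicit false
set_option maxHeartbeats 400000

noncomputable section

namespace Groth.Agent.Lib.Helper6.Morse

open MvPowerSeries

variable {n : ℕ} {k : Type*} [Field k] (f : MvPowerSeries (Fin n) k)

/-- upper triangular coefficient matrix of the quadratic part of `f` -/
def cmat : Fin n → Fin n → k :=
  fun a b => if a ≤ b then coeff (Finsupp.single a 1 + Finsupp.single b 1) f else 0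

theorem coeff_pderiv_single (i l : Fin n) :
    coeff (Finsupp.single l 1) (pderiv k i f) = cmat f i l + cmat f l i := by
  rw [coeff_pderiv]
  unfold cmat
  rcases lt_trichotomy i l with h | h | h
  · rw [if_pos h.le, if_neg (not_le.mpr h), add_zero]
    rw [Finsupp.single_apply, if_neg (ne_of_gt h)]
    simp [add_comm]
  · subst h
    rw [if_pos le_rfl, Finsupp.single_apply, if_pos rfl]
    push_cast
    ring
  · rw [if_neg (not_le.mpr h), if_pos h.le, zero_add]
    rw [Finsupp.single_apply, if_neg (ne_of_lt h)]
    simp

theorem exists_of_degree_eq_one (m : Fin n →₀ ℕ) (hm : m.degree = 1) :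
    ∃ i : Fin n, m = Finsupp.single i 1 := by
  have hm0 : m ≠ 0 := by
    intro h; rw [h] at hm; simp at hm
  obtain ⟨i, hi⟩ := Finsupp.support_nonempty_iff.mpr hm0
  have hi' : m i ≠ 0 := Finsupp.mem_support_iff.mp hi
  have hle : Finsupp.single i 1 ≤ m := by
    intro l
    by_cases hl : l = i
    · subst hl; simp; omega
    · simp [Finsupp.single_apply, Ne.symm hl]
  set m' := m - Finsupp.single i 1 with hm'
  have hmm' : m = m' + Finsupp.single i 1 := (tsub_add_cancel_of_le hle).symm
  have hdeg' : m'.degree = 0 := by
    have := congrArg Finsupp.degree hmm'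
    rw [map_add, Finsupp.degree_single, hm] at this
    omega
  have hm'0 : m' = 0 := (Finsupp.degree_eq_zero_iff m').mp hdeg'
  exact ⟨i, by rw [hmm', hm'0, zero_add]⟩

theorem ordGE_three_sub (hf0 : constantCoeff f = 0)
    (hlin : ∀ i : Fin n, coeff (Finsupp.single i 1) f = 0) :
    OrdGE 3 (f - Qf (cmat f) (fun l => X l)) := by
  have hQ2 : OrdGE 2 (Qf (cmat f) (fun l => (X l : MvPowerSeries (Fin n) k))) :=
    ordGE_Qf (r := 1) (cmat f) _ (fun i => ordGE_X i)
  intro m hm
  rw [map_sub]
  have hcases : m.degree = 0 ∨ m.degree = 1 ∨ m.degree = 2 := by omega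
  rcases hcases with h | h | h
  · have hm0 : m = 0 := (Finsupp.degree_eq_zero_iff m).mp h
    rw [hQ2 m (by omega), sub_zero, hm0]
    simpa using hf0
  · obtain ⟨i, rfl⟩ := exists_of_degree_eq_one m h
    rw [hQ2 _ (by omega), sub_zero, hlin i]
  · obtain ⟨i, j, hij, rfl⟩ := exists_of_degree_eq_two m h
    rw [coeff_Qf_X]
    unfold cmat
    by_cases hij' : i = j
    · subst hij'
      rw [if_pos rfl, if_pos le_rfl, sub_self]
    · have hlt : i < j := lt_of_le_of_ne hij hij'
      rw [if_neg hij', if_pos hij, if_neg (not_le.mpr hlt), add_zero, sub_self]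

theorem coeff_single_Lam_X (c : Fin n → Fin n → k) (i l : Fin n) :
    coeff (Finsupp.single l 1) (Lam c i (fun l => (X l : MvPowerSeries (Fin n) k)))
      = c i l + c l i := by
  classical
  unfold Lam
  rw [map_sum]
  simp only [coeff_C_mul, coeff_index_single_X]
  rw [Finset.sum_eq_single l]
  · simp
  · intro b _ hb
    rw [if_neg (Ne.symm hb), mul_zero]
  · intro h; exact absurd (Finset.mem_univ _) h

/-- first-order coefficient of a product with a series without constant term -/
theorem coeff_single_mul (a d : MvPowerSeries (Fin n) k) (hd : constantCoeff d = 0) (l : Fin n) :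
    coeff (Finsupp.single l 1) (a * d) = constantCoeff a * coeff (Finsupp.single l 1) d := by
  have ha : a = C (constantCoeff a) + (a - C (constantCoeff a)) := by ring
  have ha' : OrdGE 1 (a - C (constantCoeff a)) := by
    rw [ordGE_one_iff, map_sub, constantCoeff_C, sub_self]
  have hd' : OrdGE 1 d := (ordGE_one_iff d).mpr hd
  have h2 : OrdGE 2 ((a - C (constantCoeff a)) * d) := ha'.mul hd'
  conv_lhs => rw [ha, add_mul, map_add]
  rw [coeff_C_mul, h2 _ (by simp), add_zero]

/-- the linear forms `Lam c i X` generate the variables when the partials generate `m`. -/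
theorem exists_alpha
    (hJ : Ideal.span (Set.range fun i : Fin n => pderiv k i f)
      = IsLocalRing.maximalIdeal (MvPowerSeries (Fin n) k)) :
    ∃ α : Fin n → Fin n → k, ∀ j : Fin n,
      (X j : MvPowerSeries (Fin n) k) = ∑ i, C (α j i) * Lam (cmat f) i (fun l => X l) := by
  classical
  have hpd0 : ∀ i : Fin n, constantCoeff (pderiv k i f) = 0 := by
    intro i
    have hmem : pderiv k i f ∈ IsLocalRing.maximalIdeal (MvPowerSeries (Fin n) k) := by
      rw [← hJ]; exact Ideal.subset_span ⟨i, rfl⟩
    rw [IsLocalRing.mem_maximalIdeal, mem_nonunits_iff, isUnit_iff_constantCoeff] at hmem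
    by_contra h
    exact hmem (isUnit_iff_ne_zero.mpr h)
  have hX : ∀ j : Fin n, ∃ a : Fin n → MvPowerSeries (Fin n) k,
      ∑ i, a i * pderiv k i f = X j := by
    intro j
    have hmem : (X j : MvPowerSeries (Fin n) k) ∈
        IsLocalRing.maximalIdeal (MvPowerSeries (Fin n) k) := by
      rw [IsLocalRing.mem_maximalIdeal, mem_nonunits_iff, isUnit_iff_constantCoeff]
      have : constantCoeff (X j : MvPowerSeries (Fin n) k) = 0 := by
        simpa using coeff_zero_X (R := k) j
      rw [this]
      exact not_isUnit_zero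
    rw [← hJ] at hmem
    exact (Ideal.mem_span_range_iff_exists_fun).mp hmem
  choose a ha using hX
  refine ⟨fun j i => constantCoeff (a j i), fun j => ?_⟩
  -- coefficient identity
  have hcoef : ∀ l : Fin n, (if l = j then (1 : k) else 0)
      = ∑ i, constantCoeff (a j i) * (cmat f i l + cmat f l i) := by
    intro l
    have h1 := congrArg (coeff (Finsupp.single l 1)) (ha j)
    rw [map_sum, coeff_index_single_X] at h1
    rw [← h1]
    refine Finset.sum_congr rfl fun i _ => ?_
    rw [coeff_single_mul _ _ (hpd0 i), coeff_pderiv_single]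
  -- expand the right hand side
  have hexp : ∑ i, C (constantCoeff (a j i)) * Lam (cmat f) i (fun l => (X l : MvPowerSeries (Fin n) k))
      = ∑ l, C (∑ i, constantCoeff (a j i) * (cmat f i l + cmat f l i)) * X l := by
    unfold Lam
    simp only [Finset.mul_sum]
    rw [Finset.sum_comm]
    refine Finset.sum_congr rfl fun l _ => ?_
    rw [map_sum, Finset.sum_mul]
    refine Finset.sum_congr rfl fun i _ => ?_
    rw [map_mul, mul_assoc]
  rw [hexp]
  simp only [← hcoef]
  rw [Finset.sum_eq_single j]
  · simp
  · intro l _ hl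
    rw [if_neg hl, map_zero, zero_mul]
  · intro h; exact absurd (Finset.mem_univ _) h

end Groth.Agent.Lib.Helper6.Morse
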