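import Groth.Agent.Lib.Helper6.Morse.Hess

set_option linter.unusedSectionVars false
set_option linter.unusedVariables false
set_option linter.unusedSimpArgs false
set_option autoImplicit false
set_option maxHeartbeats 400000

noncomputable section

namespace Groth.Agent.Lib.Helper6.Morse

open MvPowerSeries

variable {n : ℕ} {k : Type*} [Field k]

/-- the vector of variables -/
abbrev Xv (n : ℕ) (k : Type*) [Field k] : Fin n → MvPowerSeries (Fin n) k := fun l => X l

variable (f : MvPowerSeries (Fin n) k) (c : Fin n → Fin n → k) (α : Fin n → Fin n → k)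
  (hα : ∀ j : Fin n, (X j : MvPowerSeries (Fin n) k) = ∑ i, C (α j i) * Lam c i (Xv n k))

include hα in
theorem exists_div {r : ℕ} (g : MvPowerSeries (Fin n) k) (hg : OrdGE (r + 1) g) :
    ∃ δ : Fin n → MvPowerSeries (Fin n) k, (∀ i, OrdGE r (δ i)) ∧
      g = ∑ i, δ i * Lam c i (Xv n k) := by
  refine ⟨fun i => ∑ j, C (α j i) * part j g, fun i => ?_, ?_⟩
  · exact OrdGE.sum _ _ fun j _ => (ordGE_part j g hg).C_mul _
  · conv_lhs => rw [sum_X_mul_part g hg]
    have h1 : ∀ j : Fin n, X j * part j g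
        = ∑ i, C (α j i) * part j g * Lam c i (Xv n k) := by
      intro j
      conv_lhs => rw [hα j]
      rw [Finset.sum_mul]
      refine Finset.sum_congr rfl fun i _ => ?_
      ring
    simp only [h1]
    rw [Finset.sum_comm]
    refine Finset.sum_congr rfl fun i _ => ?_
    rw [Finset.sum_mul]

/-- the state of the iteration at stage `t` -/
def Good (t : ℕ) (ε : Fin n → MvPowerSeries (Fin n) k) : Prop :=
  (∀ i, OrdGE 2 (ε i)) ∧ OrdGE (t + 3) (f - Qf c (Xv n k + ε))

include hα in
theorem step {t : ℕ} {ε : Fin n → MvPowerSeries (Fin n) k} (h : Good f c t ε) :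
    ∃ δ : Fin n → MvPowerSeries (Fin n) k, (∀ i, OrdGE (t + 2) (δ i)) ∧
      Good f c (t + 1) (ε + δ) := by
  obtain ⟨δ, hδ, hg⟩ := exists_div c α hα (r := t + 2) (f - Qf c (Xv n k + ε)) h.2
  refine ⟨δ, hδ, fun i => (h.1 i).add ((hδ i).mono (by omega)), ?_⟩
  have key : f - Qf c (Xv n k + (ε + δ)) = -(Qf c δ) - ∑ i, δ i * Lam c i ε := by
    have e1 : Xv n k + (ε + δ) = (Xv n k + ε) + δ := by rw [add_assoc]
    rw [e1, Qf_add]
    simp only [Lam_add, mul_add, Finset.sum_add_distrib]
    linear_combination hg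
  rw [key]
  refine OrdGE.sub ?_ ?_
  · exact ((ordGE_Qf c δ hδ).mono (by omega)).neg
  · exact OrdGE.sum _ _ fun i _ => ((hδ i).mul (ordGE_Lam c i ε h.1)).mono (by omega)

include hα in
theorem exists_seq (h0 : OrdGE 3 (f - Qf c (Xv n k))) :
    ∃ E : ℕ → Fin n → MvPowerSeries (Fin n) k, E 0 = 0 ∧ (∀ t, Good f c t (E t)) ∧
      ∀ t i, OrdGE (t + 2) (E (t + 1) i - E t i) := by
  have base : Good f c 0 (0 : Fin n → MvPowerSeries (Fin n) k) := by
    refine ⟨fun i => OrdGE.zero 2, ?_⟩
    rw [add_zero]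
    exact h0
  let S : (t : ℕ) → {ε : Fin n → MvPowerSeries (Fin n) k // Good f c t ε} := fun t =>
    Nat.rec (motive := fun t => {ε : Fin n → MvPowerSeries (Fin n) k // Good f c t ε})
      ⟨0, base⟩
      (fun t p => ⟨p.1 + Classical.choose (step f c α hα p.2),
        (Classical.choose_spec (step f c α hα p.2)).2⟩) t
  refine ⟨fun t => (S t).1, rfl, fun t => (S t).2, fun t i => ?_⟩
  have hS : (S (t + 1)).1 = (S t).1 + Classical.choose (step f c α hα (S t).2) := rfl
  show OrdGE (t + 2) ((S (t + 1)).1 i - (S t).1 i)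
  rw [hS]
  have := (Classical.choose_spec (step f c α hα (S t).2)).1 i
  simpa using this

/-- limit of a sequence converging in the order topology -/
theorem exists_limit (E : ℕ → Fin n → MvPowerSeries (Fin n) k)
    (hE : ∀ t i, OrdGE (t + 2) (E (t + 1) i - E t i)) :
    ∃ ε : Fin n → MvPowerSeries (Fin n) k, ∀ t i, OrdGE (t + 2) (ε i - E t i) := by
  have stab : ∀ (i : Fin n) (s d : ℕ) (m : Fin n →₀ ℕ), m.degree < s + 2 →
      coeff m (E (s + d) i) = coeff m (E s i) := by
    intro i s d m hm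
    induction d with
    | zero => rfl
    | succ d ih =>
      have h1 := hE (s + d) i m (by omega)
      rw [map_sub, sub_eq_zero] at h1
      rw [← add_assoc, h1, ih]
  refine ⟨fun i => fun m => coeff m (E m.degree i), fun t i m hm => ?_⟩
  rw [map_sub, sub_eq_zero]
  show coeff m (E m.degree i) = coeff m (E t i)
  by_cases hmt : m.degree ≤ t
  · obtain ⟨d, rfl⟩ := Nat.exists_eq_add_of_le hmt
    exact (stab i m.degree d m (by omega)).symm
  · have hmt' : m.degree = t + 1 := by omega
    rw [hmt']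
    exact stab i t 1 m hm

include hα in
/-- **Core of the formal Morse lemma.** -/
theorem morse_core (h0 : OrdGE 3 (f - Qf c (Xv n k))) :
    ∃ ε : Fin n → MvPowerSeries (Fin n) k, (∀ i, OrdGE 2 (ε i)) ∧ f = Qf c (Xv n k + ε) := by
  obtain ⟨E, hE0, hEgood, hEdiff⟩ := exists_seq f c α hα h0
  obtain ⟨ε, hε⟩ := exists_limit E hEdiff
  have hε2 : ∀ i, OrdGE 2 (ε i) := by
    intro i
    have := hε 0 i
    rw [hE0] at this
    simpa using this
  refine ⟨ε, hε2, ?_⟩
  have hzero : f - Qf c (Xv n k + ε) = 0 := by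
    apply eq_zero_of_forall_ordGE
    intro r
    -- it suffices to prove order ≥ t + 3 for all t
    suffices h : ∀ t, OrdGE (t + 3) (f - Qf c (Xv n k + ε)) from (h r).mono (by omega)
    intro t
    set v : Fin n → MvPowerSeries (Fin n) k := fun i => ε i - E t i with hv
    have hvord : ∀ i, OrdGE (t + 2) (v i) := fun i => hε t i
    have hu : ∀ i, OrdGE 1 ((Xv n k + E t) i) := by
      intro i
      exact (ordGE_X i).add (((hEgood t).1 i).mono (by omega))
    have e1 : Xv n k + ε = (Xv n k + E t) + v := by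
      funext i
      simp only [Pi.add_apply, hv]
      ring
    have key : f - Qf c (Xv n k + ε)
        = (f - Qf c (Xv n k + E t)) - Qf c v - ∑ i, v i * Lam c i (Xv n k + E t) := by
      rw [e1, Qf_add]
      ring
    rw [key]
    refine OrdGE.sub (OrdGE.sub (hEgood t).2 ?_) ?_
    · exact (ordGE_Qf c v hvord).mono (by omega)
    · exact OrdGE.sum _ _ fun i _ =>
        ((hvord i).mul (ordGE_Lam c i _ hu)).mono (by omega)
  exact sub_eq_zero.mp hzero

end Groth.Agent.Lib.Helper6.Morse
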