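import Groth.Agent.Lib.Helper6.Morse.Iter

set_option linter.unusedSectionVars false
set_option linter.unusedVariables false
set_option linter.unusedSimpArgs false
set_option autoImplicit false
set_option maxHeartbeats 400000

noncomputable section

namespace Groth.Agent.Lib.Helper6.Morse

open MvPowerSeries

/-- **Formal Morse lemma.** -/
theorem formal_morse (k : Type) [Field k] (n : ℕ) (f : MvPowerSeries (Fin n) k)
    (hf0 : MvPowerSeries.constantCoeff f = 0)
    (hJ : Ideal.span (Set.range fun i : Fin n => MvPowerSeries.pderiv k i f)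
      = IsLocalRing.maximalIdeal (MvPowerSeries (Fin n) k)) :
    ∃ (ε : Fin n → MvPowerSeries (Fin n) k)
      (_ : ∀ i (m : Fin n →₀ ℕ), m.degree < 2 → MvPowerSeries.coeff m (ε i) = 0)
      (q : MvPolynomial (Fin n) k) (_ : q.IsHomogeneous 2)
      (_ : MvPowerSeries.HasSubst (fun i : Fin n => MvPowerSeries.X i + ε i)),
      f = MvPowerSeries.subst (fun i : Fin n => MvPowerSeries.X i + ε i)
        (q : MvPowerSeries (Fin n) k) := by
  classical
  have hpd0 : ∀ i : Fin n, constantCoeff (pderiv k i f) = 0 := by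
    intro i
    have hmem : pderiv k i f ∈ IsLocalRing.maximalIdeal (MvPowerSeries (Fin n) k) := by
      rw [← hJ]; exact Ideal.subset_span ⟨i, rfl⟩
    rw [IsLocalRing.mem_maximalIdeal, mem_nonunits_iff, isUnit_iff_constantCoeff] at hmem
    by_contra h
    exact hmem (isUnit_iff_ne_zero.mpr h)
  have hlin : ∀ i : Fin n, coeff (Finsupp.single i 1) f = 0 := by
    intro i
    have h := hpd0 i
    rw [← coeff_zero_eq_constantCoeff_apply, coeff_pderiv] at h
    simpa using h
  obtain ⟨α, hα⟩ := exists_alpha f hJ
  have h0 := ordGE_three_sub f hf0 hlin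
  obtain ⟨ε, hε, hfε⟩ := morse_core f (cmat f) α hα h0
  refine ⟨ε, hε, qpoly (cmat f), qpoly_isHomogeneous _, ?_, ?_⟩
  · apply hasSubst_of_constantCoeff_zero
    intro i
    have h1 : constantCoeff (X i : MvPowerSeries (Fin n) k) = 0 := by
      simpa using coeff_zero_X (R := k) i
    have h2 : constantCoeff (ε i) = 0 := (ordGE_one_iff _).mp ((hε i).mono (by omega))
    rw [map_add, h1, h2, add_zero]
  · rw [subst_coe, aeval_qpoly]
    exact hfε

end Groth.Agent.Lib.Helper6.Morse
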