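import Mathlib

set_option linter.unusedSectionVars false
set_option linter.unusedVariables false
set_option linter.unusedSimpArgs false
set_option autoImplicit false
set_option maxHeartbeats 400000

noncomputable section

namespace Groth.Agent.Lib.Helper6.Morse

open MvPowerSeries

variable {σ : Type*} {R : Type*} [CommRing R]

/-- all coefficients of degree `< r` vanish -/
def OrdGE (r : ℕ) (g : MvPowerSeries σ R) : Prop :=
  ∀ m : σ →₀ ℕ, m.degree < r → coeff m g = 0

theorem ordGE_iff_le_order (r : ℕ) (g : MvPowerSeries σ R) :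
    OrdGE r g ↔ (r : ℕ∞) ≤ g.order := by
  constructor
  · intro h
    exact nat_le_order h
  · intro h m hm
    apply coeff_of_lt_order
    exact lt_of_lt_of_le (by exact_mod_cast hm) h

theorem OrdGE.mono {r s : ℕ} {g : MvPowerSeries σ R} (h : OrdGE r g) (hs : s ≤ r) : OrdGE s g :=
  fun m hm => h m (lt_of_lt_of_le hm hs)

theorem ordGE_zero (g : MvPowerSeries σ R) : OrdGE 0 g := fun m hm => absurd hm (Nat.not_lt_zero _)

theorem OrdGE.zero (r : ℕ) : OrdGE r (0 : MvPowerSeries σ R) := fun m _ => by simp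

theorem OrdGE.add {r : ℕ} {g h : MvPowerSeries σ R} (hg : OrdGE r g) (hh : OrdGE r h) :
    OrdGE r (g + h) := fun m hm => by rw [map_add, hg m hm, hh m hm, add_zero]

theorem OrdGE.neg {r : ℕ} {g : MvPowerSeries σ R} (hg : OrdGE r g) : OrdGE r (-g) :=
  fun m hm => by rw [map_neg, hg m hm, neg_zero]

theorem OrdGE.sub {r : ℕ} {g h : MvPowerSeries σ R} (hg : OrdGE r g) (hh : OrdGE r h) :
    OrdGE r (g - h) := fun m hm => by rw [map_sub, hg m hm, hh m hm, sub_zero]

theorem OrdGE.sum {ι : Type*} {r : ℕ} (s : Finset ι) (g : ι → MvPowerSeries σ R)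
    (hg : ∀ i ∈ s, OrdGE r (g i)) : OrdGE r (∑ i ∈ s, g i) := by
  intro m hm
  rw [map_sum]
  exact Finset.sum_eq_zero fun i hi => hg i hi m hm

theorem OrdGE.mul {r s : ℕ} {g h : MvPowerSeries σ R} (hg : OrdGE r g) (hh : OrdGE s h) :
    OrdGE (r + s) (g * h) := by
  rw [ordGE_iff_le_order] at hg hh ⊢
  calc ((r + s : ℕ) : ℕ∞) = (r : ℕ∞) + (s : ℕ∞) := by push_cast; rfl
    _ ≤ g.order + h.order := add_le_add hg hh
    _ ≤ (g * h).order := le_order_mul

theorem OrdGE.C_mul {r : ℕ} {g : MvPowerSeries σ R} (hg : OrdGE r g) (a : R) :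
    OrdGE r (C a * g) := fun m hm => by rw [coeff_C_mul, hg m hm, mul_zero]

theorem OrdGE.mul_left {r : ℕ} {g : MvPowerSeries σ R} (hg : OrdGE r g) (h : MvPowerSeries σ R) :
    OrdGE r (h * g) := by
  have := (ordGE_zero h).mul hg
  simpa using this

theorem OrdGE.mul_right {r : ℕ} {g : MvPowerSeries σ R} (hg : OrdGE r g) (h : MvPowerSeries σ R) :
    OrdGE r (g * h) := by
  have := hg.mul (ordGE_zero h)
  simpa using this

theorem ordGE_X (s : σ) : OrdGE 1 (X s : MvPowerSeries σ R) := by
  classical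
  intro m hm
  have hm0 : m = 0 := by
    have : m.degree = 0 := by omega
    exact (Finsupp.degree_eq_zero_iff m).mp this
  rw [hm0]
  exact coeff_zero_X s

theorem ordGE_one_iff (g : MvPowerSeries σ R) : OrdGE 1 g ↔ constantCoeff g = 0 := by
  constructor
  · intro h
    have := h 0 (by simp)
    simpa using this
  · intro h m hm
    have hm0 : m = 0 := by
      have : m.degree = 0 := by omega
      exact (Finsupp.degree_eq_zero_iff m).mp this
    rw [hm0]
    simpa using h

theorem eq_zero_of_forall_ordGE (g : MvPowerSeries σ R) (h : ∀ r, OrdGE r g) : g = 0 := by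
  ext m
  rw [h (m.degree + 1) m (Nat.lt_succ_self _)]
  simp

end Groth.Agent.Lib.Helper6.Morse
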