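import Groth.Agent.Lib.Helper6.Morse.Div

set_option linter.unusedSectionVars false
set_option linter.unusedVariables false
set_option linter.unusedSimpArgs false
set_option autoImplicit false
set_option maxHeartbeats 400000

noncomputable section

namespace Groth.Agent.Lib.Helper6.Morse

open MvPowerSeries

variable {n : ℕ} {k : Type*} [CommRing k]

/-- the quadratic form with coefficient matrix `c`, evaluated on power series -/
def Qf (c : Fin n → Fin n → k) (u : Fin n → MvPowerSeries (Fin n) k) : MvPowerSeries (Fin n) k :=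
  ∑ a, ∑ b, C (c a b) * u a * u b

/-- the polar linear forms -/
def Lam (c : Fin n → Fin n → k) (i : Fin n) (u : Fin n → MvPowerSeries (Fin n) k) :
    MvPowerSeries (Fin n) k :=
  ∑ l, C (c i l + c l i) * u l

theorem Lam_add (c : Fin n → Fin n → k) (i : Fin n) (u v : Fin n → MvPowerSeries (Fin n) k) :
    Lam c i (u + v) = Lam c i u + Lam c i v := by
  unfold Lam
  rw [← Finset.sum_add_distrib]
  refine Finset.sum_congr rfl fun l _ => ?_
  rw [Pi.add_apply, mul_add]

theorem sum_mul_Lam (c : Fin n → Fin n → k) (u v : Fin n → MvPowerSeries (Fin n) k) :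
    ∑ i, v i * Lam c i u = ∑ a, ∑ b, (C (c a b) * v a * u b + C (c a b) * u a * v b) := by
  unfold Lam
  simp only [Finset.mul_sum, map_add, add_mul, mul_add, Finset.sum_add_distrib]
  congr 1
  · refine Finset.sum_congr rfl fun a _ => Finset.sum_congr rfl fun b _ => ?_
    ring
  · rw [Finset.sum_comm]
    refine Finset.sum_congr rfl fun a _ => Finset.sum_congr rfl fun b _ => ?_
    ring

/-- the polar identity -/
theorem Qf_add (c : Fin n → Fin n → k) (u v : Fin n → MvPowerSeries (Fin n) k) :
    Qf c (u + v) = Qf c u + Qf c v + ∑ i, v i * Lam c i u := by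
  rw [sum_mul_Lam]
  unfold Qf
  simp only [← Finset.sum_add_distrib]
  refine Finset.sum_congr rfl fun a _ => Finset.sum_congr rfl fun b _ => ?_
  simp only [Pi.add_apply]
  ring

theorem ordGE_Qf {r : ℕ} (c : Fin n → Fin n → k) (u : Fin n → MvPowerSeries (Fin n) k)
    (hu : ∀ i, OrdGE r (u i)) : OrdGE (r + r) (Qf c u) := by
  unfold Qf
  refine OrdGE.sum _ _ fun a _ => OrdGE.sum _ _ fun b _ => ?_
  rw [mul_assoc]
  exact ((hu a).mul (hu b)).C_mul _

theorem ordGE_Lam {r : ℕ} (c : Fin n → Fin n → k) (i : Fin n)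
    (u : Fin n → MvPowerSeries (Fin n) k) (hu : ∀ i, OrdGE r (u i)) : OrdGE r (Lam c i u) := by
  unfold Lam
  exact OrdGE.sum _ _ fun l _ => (hu l).C_mul _

/-- the quadratic form as a polynomial -/
def qpoly (c : Fin n → Fin n → k) : MvPolynomial (Fin n) k :=
  ∑ a, ∑ b, MvPolynomial.C (c a b) * MvPolynomial.X a * MvPolynomial.X b

theorem qpoly_isHomogeneous (c : Fin n → Fin n → k) : (qpoly c).IsHomogeneous 2 := by
  unfold qpoly
  refine MvPolynomial.IsHomogeneous.sum _ _ _ fun a _ =>
    MvPolynomial.IsHomogeneous.sum _ _ _ fun b _ => ?_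
  have h1 : (MvPolynomial.C (c a b) : MvPolynomial (Fin n) k).IsHomogeneous 0 :=
    MvPolynomial.isHomogeneous_C _ _
  have h2 := (h1.mul (MvPolynomial.isHomogeneous_X k a)).mul (MvPolynomial.isHomogeneous_X k b)
  simpa using h2

theorem aeval_qpoly (c : Fin n → Fin n → k) (u : Fin n → MvPowerSeries (Fin n) k) :
    MvPolynomial.aeval u (qpoly c) = Qf c u := by
  unfold qpoly Qf
  simp only [map_sum, map_mul, MvPolynomial.aeval_X, MvPolynomial.aeval_C,
    MvPowerSeries.algebraMap_apply, Algebra.algebraMap_self, RingHom.id_apply]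

end Groth.Agent.Lib.Helper6.Morse
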